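import Groth.Agent.WDivAffLib.Fibre
import Groth.Agent.S1692

/-!
# Pullback of divisor classes to affine space
-/

set_option autoImplicit false
set_option linter.style.haveILetI false
set_option backward.isDefEq.respectTransparency false
set_option backward.isDefEq.respectTransparency.types false
universe u

open CategoryTheory AlgebraicGeometry TopologicalSpace

noncomputable section

namespace WDivAffLib

theorem eq_generic_of_coheight_zero {X : Scheme.{u}} [IsIntegral X] {x : X} (hx : Order.coheight x = 0) :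
    x = genericPoint X := by
  have hmax : IsMax x := Order.coheight_eq_zero.1 hx
  exact ((genericPoint_specializes x).antisymm (hmax (b := genericPoint X) (genericPoint_specializes x))).eq.symm

theorem coheight_generic (X : Scheme.{u}) [IsIntegral X] : Order.coheight (genericPoint X) = 0 :=
  Order.coheight_eq_zero.2 fun y _ => genericPoint_specializes y

theorem finite_ord_support {P : Scheme.{u}} [IsIntegral P] [IsLocallyNoetherian P] [CompactSpace P]
    (f : P.functionField) (hf : f ≠ 0) : {y : P | Scheme.ord f y ≠ 0}.Finite := by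
  have h := (Groth.Agent.S1692.result P f hf).finite_nonempty_of_compact
  refine (h.image Subtype.val).subset fun y hy => ?_
  have hy1 : Order.coheight y = 1 := by
    by_contra hne
    exact hy (Scheme.ord_eq_zero_of_coheight_neq_one hne _)
  exact ⟨⟨y, hy1, hy⟩, ⟨y, subset_closure rfl⟩, rfl⟩

variable (n : Type u) [Finite n] (X : Scheme.{u}) [IsIntegral X] [IsNoetherian X] [IsLocallyNoetherian 𝔸(n; X)]
  (hR1 : ∀ x : X, Order.coheight x = 1 → IsDiscreteValuationRing (X.presheaf.stalk x))

omit [Finite n] in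
theorem pr_cases (y : (𝔸(n; X) : Scheme.{u})) (hy : Order.coheight y = 1) :
    (𝔸(n; X) ↘ X) y = genericPoint X ∨ Order.coheight ((𝔸(n; X) ↘ X) y) = 1 := by
  haveI := flat_pr n X
  have h := coheight_le_of_flat (𝔸(n; X) ↘ X) y
  rw [hy] at h
  rcases eq_or_lt_of_le h with h | h
  · exact Or.inr h
  · exact Or.inl (eq_generic_of_coheight_zero (Order.lt_one_iff.1 h))

include hR1 in
/-- Pullback of divisor classes is injective. -/
theorem principal_of_pullback (D : X → ℤ) (hD : ∀ x, Order.coheight x ≠ 1 → D x = 0)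
    (g : (𝔸(n; X) : Scheme.{u}).functionField) (hg : g ≠ 0)
    (h : ∀ y, Order.coheight y = 1 → Scheme.ord g y = D ((𝔸(n; X) ↘ X) y)) :
    ∃ f : X.functionField, f ≠ 0 ∧ pullF n X f = g ∧ ∀ x, Order.coheight x = 1 → Scheme.ord f x = D x := by
  obtain ⟨f, hf, rfl⟩ := exists_eq_pullF n X hg fun y hy hpy => by
    rw [h y hy, hpy, hD _ (by rw [coheight_generic]; exact zero_ne_one)]
  refine ⟨f, hf, rfl, fun x hx => ?_⟩
  haveI := hR1 x hx
  obtain ⟨y, hy, hpy, -, hord⟩ := exists_vertical n X hx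
  rw [← hord f, h y hy, hpy]

include hR1 in
/-- Pullback of divisor classes is surjective. -/
theorem linEquiv_pullback (D' : (𝔸(n; X) : Scheme.{u}) → ℤ) (hD' : ∀ y, Order.coheight y ≠ 1 → D' y = 0)
    (hfin : {y | D' y ≠ 0}.Finite) :
    ∃ (D : X → ℤ) (g : (𝔸(n; X) : Scheme.{u}).functionField), (∀ x, Order.coheight x ≠ 1 → D x = 0) ∧
      {x | D x ≠ 0}.Finite ∧ g ≠ 0 ∧
        ∀ y, Order.coheight y = 1 → D' y = D ((𝔸(n; X) ↘ X) y) + Scheme.ord g y := by
  classical
  haveI : CompactSpace (𝔸(n; X) : Scheme.{u}) := QuasiCompact.compactSpace_of_compactSpace (𝔸(n; X) ↘ X)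
  obtain ⟨g, hg, hgord⟩ := exists_horizontal n X D' hD' hfin
  have hex : ∀ x : {x : X // Order.coheight x = 1}, ∃ y : (𝔸(n; X) : Scheme.{u}), Order.coheight y = 1 ∧
      (𝔸(n; X) ↘ X) y = x.1 ∧ ∀ y', Order.coheight y' = 1 → (𝔸(n; X) ↘ X) y' = x.1 → y' = y := fun x => by
    haveI := hR1 x.1 x.2
    obtain ⟨y, hy, hpy, hu, -⟩ := exists_vertical n X x.2
    exact ⟨y, hy, hpy, hu⟩
  choose η hη hpη huniq using hex
  let D : X → ℤ := fun x =>
    if hx : Order.coheight x = 1 then D' (η ⟨x, hx⟩) - Scheme.ord g (η ⟨x, hx⟩) else 0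
  refine ⟨D, g, fun x hx => dif_neg hx, ?_, hg, fun y hy => ?_⟩
  · refine ((hfin.union (finite_ord_support g hg)).image (𝔸(n; X) ↘ X)).subset fun x hx => ?_
    have hx1 : Order.coheight x = 1 := by
      by_contra hne
      exact hx (dif_neg hne)
    refine ⟨η ⟨x, hx1⟩, ?_, hpη _⟩
    by_contra hne
    simp only [Set.mem_union, Set.mem_setOf_eq, not_or, not_not] at hne
    refine hx ?_
    show D x = 0
    rw [show D x = D' (η ⟨x, hx1⟩) - Scheme.ord g (η ⟨x, hx1⟩) from dif_pos hx1, hne.1, hne.2, sub_zero]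
  · rcases pr_cases n X y hy with hpy | hpy
    · rw [hpy, show D (genericPoint X) = 0 from dif_neg (by rw [coheight_generic]; exact zero_ne_one),
        hgord y hy hpy, zero_add]
    · have hyη := huniq ⟨_, hpy⟩ y hy rfl
      rw [show D ((𝔸(n; X) ↘ X) y) = D' (η ⟨_, hpy⟩) - Scheme.ord g (η ⟨_, hpy⟩) from dif_pos hpy, ← hyη]
      ring

end WDivAffLib

end
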