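import Groth.Agent.WDivAffLib.Main
import Groth.Agent.GradedCechLib.Chart
import Groth.Prelude.Def_CohB1

/-!
# Divisors on projective space over an affine scheme
-/

set_option autoImplicit false
set_option linter.style.haveILetI false
set_option backward.isDefEq.respectTransparency false
set_option backward.isDefEq.respectTransparency.types false
set_option maxHeartbeats 1000000
universe u

open CategoryTheory AlgebraicGeometry TopologicalSpace MvPolynomial HomogeneousLocalization
open GradedCechLib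

noncomputable section

namespace WDivAffLib

variable (n : ℕ) (A : Type u) [CommRing A]

/-- Indices of the affine chart. -/
abbrev σ : Type u := ULift.{u} (Fin n)

/-- The affine coordinates of the chart `X₀ ≠ 0`. -/
def φ₀ : MvPolynomial (σ n) A →+* Away (CohB1.polyGrading n A) (X 0 : Poly n A) :=
  (deh₀ n A 0).comp (rename (R := A) fun i : σ n => Fin.succ i.down).toRingHom

theorem φ₀_C (r : A) : φ₀ n A (C r) = cst n A (X 0) r := by
  simp [φ₀, deh₀]

theorem φ₀_bijective : Function.Bijective (φ₀ n A) := by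
  let v : Fin (n + 1) → MvPolynomial (σ n) A := Fin.cases 1 fun j => X ⟨j⟩
  let g : Poly n A →+* MvPolynomial (σ n) A := (aeval v).toRingHom
  have hu : IsUnit (g (X 0)) := by simp [g, v]
  let ψ : Away (CohB1.polyGrading n A) (X 0 : Poly n A) →+* MvPolynomial (σ n) A :=
    (IsLocalization.Away.lift (S := Localization.Away (X 0 : Poly n A)) (X 0 : Poly n A) hu).comp
      (algebraMap (Away (CohB1.polyGrading n A) (X 0 : Poly n A)) (Localization.Away (X 0 : Poly n A)))
  have hfac : deh₀ n A 0 = (φ₀ n A).comp g := by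
    refine MvPolynomial.ringHom_ext (fun r => ?_) fun i => ?_
    · simp [φ₀, g]
    · refine Fin.cases ?_ (fun j => ?_) i
      · simp [g, v, deh₀_X_self]
      · simp [φ₀, g, v]
  refine ⟨Function.LeftInverse.injective (g := ψ) ?_, fun z => ?_⟩
  · suffices h : ψ.comp (φ₀ n A) = RingHom.id _ from fun p => RingHom.congr_fun h p
    refine MvPolynomial.ringHom_ext (fun r => ?_) fun j => ?_
    · show ψ (φ₀ n A (C r)) = C r
      rw [φ₀_C]
      show IsLocalization.Away.lift _ hu ((cst n A (X 0) r).val) = C r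
      rw [val_cst, IsLocalization.Away.lift_eq]
      simp [g]
    · show ψ (φ₀ n A (X j)) = X j
      have e : φ₀ n A (X j) = deh₀ n A 0 (X (Fin.succ j.down)) := by simp [φ₀]
      rw [e]
      show IsLocalization.Away.lift _ hu ((deh₀ n A 0 (X (Fin.succ j.down))).val) = X j
      rw [val_deh₀_X, Localization.mk_eq_mk', IsLocalization.Away.lift, IsLocalization.lift_mk'_spec]
      simp [g, v, xpw]
  · obtain ⟨p, rfl⟩ := deh₀_surjective n A 0 z
    exact ⟨g p, (RingHom.congr_fun hfac p).symm⟩

instance isOpenImmersion_chartι (i : Fin (n + 1)) : IsOpenImmersion (chartι n A i) :=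
  inferInstanceAs (IsOpenImmersion (Proj.awayι _ _ _ _))

/-- The chart `X₀ ≠ 0` as an affine space. -/
def emb : 𝔸(σ n; Spec (CommRingCat.of A)) ⟶ CohB1.ProjSpace n A :=
  (AffineSpace.SpecIso (σ n) (CommRingCat.of A)).hom ≫
    Spec.map (CommRingCat.ofHom (RingEquiv.ofBijective (φ₀ n A) (φ₀_bijective n A)).symm.toRingHom) ≫ chartι n A 0

instance isOpenImmersion_emb : IsOpenImmersion (emb n A) := by
  haveI : IsIso (CommRingCat.ofHom (RingEquiv.ofBijective (φ₀ n A) (φ₀_bijective n A)).symm.toRingHom) :=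
    (RingEquiv.ofBijective (φ₀ n A) (φ₀_bijective n A)).symm.toCommRingCatIso.isIso_hom
  unfold emb chartι
  infer_instance

theorem emb_over : emb n A ≫ CohB1.ProjSpace.toSpec n A = 𝔸(σ n; Spec (CommRingCat.of A)) ↘ Spec (CommRingCat.of A) := by
  have hcomp : chartι n A 0 ≫ CohB1.ProjSpace.toSpec n A = Spec.map (CommRingCat.ofHom (cst n A (X 0))) := by
    rw [CohB1.ProjSpace.toSpec, chartι]
    erw [Proj.awayι_toSpecZero_assoc, ← Spec.map_comp]
    rfl
  rw [emb, Category.assoc, Category.assoc, hcomp, ← Spec.map_comp, ← CommRingCat.ofHom_comp,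
    ← cancel_epi (AffineSpace.SpecIso (σ n) (CommRingCat.of A)).inv, Iso.inv_hom_id_assoc, AffineSpace.SpecIso_inv_over]
  congr 2
  refine RingHom.ext fun r => ?_
  show (RingEquiv.ofBijective (φ₀ n A) (φ₀_bijective n A)).symm (cst n A (X 0) r) = C r
  rw [RingEquiv.symm_apply_eq]
  exact (φ₀_C n A r).symm

theorem range_emb : (emb n A).opensRange = Proj.basicOpen (CohB1.polyGrading n A) (X 0 : Poly n A) := by
  haveI : IsIso (CommRingCat.ofHom (RingEquiv.ofBijective (φ₀ n A) (φ₀_bijective n A)).symm.toRingHom) :=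
    (RingEquiv.ofBijective (φ₀ n A) (φ₀_bijective n A)).symm.toCommRingCatIso.isIso_hom
  haveI : IsOpenImmersion (chartι n A 0) := inferInstanceAs (IsOpenImmersion (Proj.awayι _ _ _ _))
  unfold emb
  rw [Scheme.Hom.opensRange_comp_of_isIso, Scheme.Hom.opensRange_comp_of_isIso]
  exact Proj.opensRange_awayι _ _ _ _

variable [IsDomain A] [IsNoetherianRing A] [IsIntegral (CohB1.ProjSpace n A)]
  [IsLocallyNoetherian (CohB1.ProjSpace n A)]

/-- Off the chart the only point of codimension one is the hyperplane. -/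
theorem mem_range_emb {H : CohB1.ProjSpace n A}
    (hH : H.asHomogeneousIdeal.toIdeal = Ideal.span {(X 0 : Poly n A)}) {y : CohB1.ProjSpace n A}
    (hy : Order.coheight y = 1) (hne : y ≠ H) : ∃ q, emb n A q = y := by
  by_contra hq
  have hy0 : (X 0 : Poly n A) ∈ y.asHomogeneousIdeal := by
    by_contra h
    exact hq (show y ∈ (emb n A).opensRange from (range_emb n A).ge h)
  have hs : H ⤳ y := by
    refine specializes_iff_mem_closure.2 ((ProjectiveSpectrum.le_iff_mem_closure (𝒜 := CohB1.polyGrading n A) H y).1 ?_)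
    show H.asHomogeneousIdeal.toIdeal ≤ y.asHomogeneousIdeal.toIdeal
    rw [hH, Ideal.span_singleton_le_iff_mem]
    exact hy0
  have hlt : y < H := lt_of_le_not_ge hs fun h => hne (hs.antisymm h).eq.symm
  have h2 := Order.coheight_add_one_le hlt
  rw [hy] at h2
  have h0 : Order.coheight H = 0 := by
    have : Order.coheight H + 1 ≤ 0 + 1 := by simpa using h2
    exact le_antisymm ((ENat.add_le_add_iff_right ENat.one_ne_top).1 this) zero_le'
  have hHgen := eq_generic_of_coheight_zero h0
  have hmem : genericPoint (CohB1.ProjSpace n A) ∈ Proj.basicOpen (CohB1.polyGrading n A) (X 0 : Poly n A) := by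
    rw [← range_emb]
    haveI : IsIntegral (Spec (CommRingCat.of A)) := inferInstance
    haveI : IsIntegral 𝔸(σ n; Spec (CommRingCat.of A)) := inferInstance
    exact ⟨_, genericPoint_eq_of_isOpenImmersion (emb n A)⟩
  refine hmem ?_
  rw [← hHgen, ← HomogeneousIdeal.mem_iff, hH]
  exact Ideal.mem_span_singleton_self _

omit [IsLocallyNoetherian (CohB1.ProjSpace n A)] in
theorem emb_generic [IsIntegral 𝔸(σ n; Spec (CommRingCat.of A))] :
    emb n A (genericPoint (𝔸(σ n; Spec (CommRingCat.of A)) : Scheme.{u})) = genericPoint (CohB1.ProjSpace n A) :=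
  genericPoint_eq_of_isOpenImmersion _

omit [IsLocallyNoetherian (CohB1.ProjSpace n A)] in
/-- The hyperplane lies over the generic point. -/
theorem toSpec_H (hn : 1 ≤ n) {H : CohB1.ProjSpace n A}
    (hH : H.asHomogeneousIdeal.toIdeal = Ideal.span {(X 0 : Poly n A)}) [IsIntegral (Spec (CommRingCat.of A))] :
    CohB1.ProjSpace.toSpec n A H = genericPoint (Spec (CommRingCat.of A)) := by
  let i : Fin (n + 1) := ⟨1, by omega⟩
  have hH0 : ∀ p : Poly n A, p ∈ H.asHomogeneousIdeal → (X 0 : Poly n A) ∣ p := fun p hp => by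
    rw [← HomogeneousIdeal.mem_iff, hH] at hp
    exact Ideal.mem_span_singleton.1 hp
  have hXi : ∀ a : A, a ≠ 0 → (C a * X i : Poly n A) ∉ H.asHomogeneousIdeal := fun a ha hmem => by
    obtain ⟨w, hw⟩ := hH0 _ hmem
    have h := congrArg (eval fun t : Fin (n + 1) => if t = 0 then (0 : A) else 1) hw
    have hi : i ≠ 0 := fun e => Nat.one_ne_zero (congrArg Fin.val e)
    rw [map_mul, map_mul, eval_C, eval_X, eval_X, if_neg hi, if_pos rfl, zero_mul, mul_one] at h
    exact ha h
  obtain ⟨z, hz⟩ : H ∈ (chartι n A i).opensRange := by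
    rw [show (chartι n A i).opensRange = Proj.basicOpen (CohB1.polyGrading n A) (X i : Poly n A) from
      Proj.opensRange_awayι _ _ _ _]
    intro h
    refine hXi 1 one_ne_zero ?_
    rw [map_one, one_mul]
    exact h
  have hcomp : chartι n A i ≫ CohB1.ProjSpace.toSpec n A = Spec.map (CommRingCat.ofHom (cst n A (X i))) := by
    rw [CohB1.ProjSpace.toSpec, chartι]
    erw [Proj.awayι_toSpecZero_assoc, ← Spec.map_comp]
    rfl
  refine PrimeSpectrum.ext ?_
  rw [genericPoint_eq_bot_of_affine]
  refine eq_bot_iff.2 fun a ha => ?_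
  by_contra hne
  rw [← hz, ← Scheme.Hom.comp_apply, hcomp] at ha
  have ha' : cst n A (X i) a ∈ z.asIdeal := ha
  have hdeg : (C a * X i : Poly n A).IsHomogeneous 1 := isHomogeneous_C_mul_X a i
  have hpre := Proj.awayι_preimage_basicOpen (CohB1.polyGrading n A) (X_mem n A i) one_pos
    (show (C a * X i : Poly n A) ∈ CohB1.polyGrading n A 1 from hdeg) one_pos
  have hmem : z ∈ chartι n A i ⁻¹ᵁ Proj.basicOpen (CohB1.polyGrading n A) (C a * X i : Poly n A) := by
    show chartι n A i z ∈ Proj.basicOpen (CohB1.polyGrading n A) (C a * X i : Poly n A)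
    rw [hz]
    exact hXi a hne
  have hmem' := hpre.le hmem
  refine hmem' ?_
  convert ha' using 1
  refine HomogeneousLocalization.val_injective _ ?_
  rw [val_cst, ← Localization.mk_one_eq_algebraMap]
  simp only [Away.val_mk, Localization.mk_eq_mk_iff, Localization.r_iff_exists]
  exact ⟨1, by simp [mul_comm]⟩

variable [IsIntegral (Spec (CommRingCat.of A))]
  (hR1 : ∀ x : Spec (CommRingCat.of A), Order.coheight x = 1 →
    IsDiscreteValuationRing ((Spec (CommRingCat.of A)).presheaf.stalk x))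

include hR1 in
/-- A principal divisor `d·H + q^*D`. -/
theorem proj_principal (hn : 1 ≤ n) (H : CohB1.ProjSpace n A)
    (hH : H.asHomogeneousIdeal.toIdeal = Ideal.span {(X 0 : Poly n A)})
    (d : ℤ) (D : Spec (CommRingCat.of A) → ℤ) (hD : ∀ x, Order.coheight x ≠ 1 → D x = 0)
    (g : (CohB1.ProjSpace n A).functionField) (hg : g ≠ 0)
    (hH' : Scheme.ord g H = d + D (CohB1.ProjSpace.toSpec n A H))
    (h : ∀ y, y ≠ H → Order.coheight y = 1 → Scheme.ord g y = D (CohB1.ProjSpace.toSpec n A y)) :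
    d = 0 ∧ ∃ f : (Spec (CommRingCat.of A)).functionField, f ≠ 0 ∧
      ∀ x, Order.coheight x = 1 → Scheme.ord f x = D x := by
  let Q : Scheme.{u} := 𝔸(σ n; Spec (CommRingCat.of A))
  haveI : IsLocallyNoetherian Q := LocallyOfFiniteType.isLocallyNoetherian (Q ↘ Spec (CommRingCat.of A))
  haveI : IsIntegral Q := inferInstanceAs (IsIntegral 𝔸(σ n; Spec (CommRingCat.of A)))
  let e : Q ⟶ CohB1.ProjSpace n A := emb n A
  have hb : ∀ q, Function.Bijective (e.stalkMap q) := fun q => ConcreteCategory.bijective_of_isIso (e.stalkMap q)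
  have hnr : ∀ q, e q ≠ H := fun q hq => by
    have h' : H ∈ (emb n A).opensRange := ⟨q, hq⟩
    rw [range_emb] at h'
    refine h' ?_
    rw [← HomogeneousIdeal.mem_iff, hH]
    exact Ideal.mem_span_singleton_self _
  have hb1 := fmap_bijective e (emb_generic n A) (hb _)
  obtain ⟨f, hf, hfg, hord⟩ := principal_of_pullback (σ n) (Spec (CommRingCat.of A)) hR1 D hD
    (fmap e (emb_generic n A) g) ((map_ne_zero_iff _ hb1.1).2 hg) fun q hq => by
      rw [ord_fmap e (emb_generic n A) q (hb q), h _ (hnr q) ((coheight_eq_of_bijective e q (hb q)).trans hq),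
        ← Scheme.Hom.comp_apply, emb_over]
  refine ⟨?_, f, hf, hord⟩
  have hqH := toSpec_H n A hn hH
  rw [hqH, hD _ (by rw [coheight_generic]; exact zero_ne_one), add_zero] at hH'
  let q := CohB1.ProjSpace.toSpec n A
  have hqgen : q (genericPoint (CohB1.ProjSpace n A)) = genericPoint (Spec (CommRingCat.of A)) := by
    rw [← emb_generic n A, ← Scheme.Hom.comp_apply, emb_over]
    exact generic_pr _ _
  have hgf : fmap q hqgen f = g := hb1.1 (by
    rw [← fmap_comp e (emb_generic n A) q hqgen f, ← hfg]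
    exact fmap_congr (emb_over n A) _ f)
  rw [← hH', ← hgf]
  obtain ⟨U, hU, a, rfl⟩ := (Spec (CommRingCat.of A)).presheaf.exists_germ_eq f
  have hqU : q H ∈ U := hqH.symm ▸ hU
  have hfe : (Spec (CommRingCat.of A)).presheaf.germ U (genericPoint _) hU a =
      algebraMap ((Spec (CommRingCat.of A)).presheaf.stalk (q H)) (Spec (CommRingCat.of A)).functionField
        ((Spec (CommRingCat.of A)).presheaf.germ U (q H) hqU a) :=
    (CDivCoreLib.algebraMap_germ hqU hU a).symm
  have ha : IsUnit ((Spec (CommRingCat.of A)).presheaf.germ U (q H) hqU a) := by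
    have key : ∀ (x : Spec (CommRingCat.of A)) (_ : x = genericPoint (Spec (CommRingCat.of A))) (hx : x ∈ U),
        IsUnit ((Spec (CommRingCat.of A)).presheaf.germ U x hx a) := by
      rintro x rfl hx
      exact isUnit_iff_ne_zero (G₀ := (Spec (CommRingCat.of A)).functionField).2 hf
    exact key _ hqH hqU
  rw [hfe, fmap_algebraMap q hqgen H]
  by_cases hH1 : Order.coheight H = 1
  · exact Ref1Lib.units_spec hH1 (ha.map (q.stalkMap H).hom)
  · exact Scheme.ord_eq_zero_of_coheight_neq_one hH1 _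

include hR1 in
/-- Classes on projective space. -/
theorem proj_linEquiv (hn : 1 ≤ n) (H : CohB1.ProjSpace n A)
    (hH : H.asHomogeneousIdeal.toIdeal = Ideal.span {(X 0 : Poly n A)})
    (D' : CohB1.ProjSpace n A → ℤ) (hD' : ∀ y, Order.coheight y ≠ 1 → D' y = 0) (hfin : {y | D' y ≠ 0}.Finite) :
    ∃! d : ℤ, ∃ (D : Spec (CommRingCat.of A) → ℤ) (g : (CohB1.ProjSpace n A).functionField),
      (∀ x, Order.coheight x ≠ 1 → D x = 0) ∧ {x | D x ≠ 0}.Finite ∧ g ≠ 0 ∧
      D' H = d + D (CohB1.ProjSpace.toSpec n A H) + Scheme.ord g H ∧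
      ∀ y, y ≠ H → Order.coheight y = 1 →
        D' y = D (CohB1.ProjSpace.toSpec n A y) + Scheme.ord g y := by
  let Q : Scheme.{u} := 𝔸(σ n; Spec (CommRingCat.of A))
  haveI : IsLocallyNoetherian Q := LocallyOfFiniteType.isLocallyNoetherian (Q ↘ Spec (CommRingCat.of A))
  haveI : IsIntegral Q := inferInstanceAs (IsIntegral 𝔸(σ n; Spec (CommRingCat.of A)))
  let e : Q ⟶ CohB1.ProjSpace n A := emb n A
  have hb : ∀ q, Function.Bijective (e.stalkMap q) := fun q => ConcreteCategory.bijective_of_isIso (e.stalkMap q)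
  have hb1 := fmap_bijective e (emb_generic n A) (hb _)
  obtain ⟨D, g₀, hD, hDfin, hg₀, hord⟩ := linEquiv_pullback (σ n) (Spec (CommRingCat.of A)) hR1 (fun q => D' (e q))
    (fun q hq => hD' _ (by rwa [coheight_eq_of_bijective e q (hb q)]))
    (hfin.preimage e.isOpenEmbedding.injective.injOn)
  obtain ⟨g, rfl⟩ := hb1.2 g₀
  have hg : g ≠ 0 := fun h => hg₀ (by rw [h, map_zero])
  refine ⟨D' H - D (CohB1.ProjSpace.toSpec n A H) - Scheme.ord g H,
    ⟨D, g, hD, hDfin, hg, by ring, fun y hne hy => ?_⟩, fun d' ⟨D₂, g₂, hD₂, _, hg₂, hH₂, h₂⟩ => ?_⟩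
  · obtain ⟨q, rfl⟩ := mem_range_emb n A hH hy hne
    have hq : Order.coheight q = 1 := (coheight_eq_of_bijective e q (hb q)).symm.trans hy
    rw [hord q hq, ord_fmap e (emb_generic n A) q (hb q), ← Scheme.Hom.comp_apply, emb_over]
  · have hquot : ∀ y, Scheme.ord (g * g₂⁻¹) y = Scheme.ord g y - Scheme.ord g₂ y := fun y => by
      rw [Scheme.ord_mul hg (inv_ne_zero hg₂), CDivCoreLib.ord_inv hg₂]
      ring
    obtain ⟨h0, -⟩ := proj_principal n A hR1 hn H hH
      (d' - (D' H - D (CohB1.ProjSpace.toSpec n A H) - Scheme.ord g H))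
      (fun x => D₂ x - D x) (fun x hx => by rw [hD₂ x hx, hD x hx, sub_zero])
      (g * g₂⁻¹) (mul_ne_zero hg (inv_ne_zero hg₂)) (by rw [hquot]; linarith [hH₂]) fun y hne hy => by
        rw [hquot]
        obtain ⟨q, rfl⟩ := mem_range_emb n A hH hy hne
        have hq : Order.coheight q = 1 := (coheight_eq_of_bijective e q (hb q)).symm.trans hy
        have h1 := hord q hq
        rw [ord_fmap e (emb_generic n A) q (hb q), ← emb_over, Scheme.Hom.comp_apply] at h1
        have h3 := h₂ _ hne hy
        linarith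
    linarith

end WDivAffLib

end
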