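import Groth.Agent.WDivAffLib.SpecUFD
import Mathlib.AlgebraicGeometry.AffineSpace
import Mathlib.RingTheory.Polynomial.UniqueFactorization
import Mathlib.RingTheory.Polynomial.RationalRoot

/-!
# Divisors on affine space over a scheme
-/

set_option autoImplicit false
set_option linter.style.haveILetI false
set_option backward.isDefEq.respectTransparency false
set_option backward.isDefEq.respectTransparency.types false
set_option maxHeartbeats 1000000
universe u

open CategoryTheory CategoryTheory.Limits AlgebraicGeometry TopologicalSpace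

noncomputable section

namespace WDivAffLib

variable (n : Type u) (X : Scheme.{u})

theorem flat_pr : Flat (𝔸(n; X) ↘ X) :=
  MorphismProperty.pullback_fst _ _ <| by
  have := isIso_of_isTerminal specULiftZIsTerminal.{u} terminalIsTerminal (terminal.from _)
  rw [← terminal.comp_from (Spec.map (CommRingCat.ofHom (MvPolynomial.C (R := ULift.{u} ℤ) (σ := n)))),
    MorphismProperty.cancel_right_of_respectsIso (P := @Flat), Flat.SpecMap_iff]
  exact RingHom.flat_algebraMap_iff.2 (inferInstance : Module.Flat (ULift.{u} ℤ) (MvPolynomial n (ULift.{u} ℤ)))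

theorem flat_C (R : Type u) [CommRing R] :
    Flat (Spec.map (CommRingCat.ofHom (MvPolynomial.C (σ := n) (R := R)))) := by
  rw [Flat.SpecMap_iff]
  show RingHom.Flat (algebraMap R (MvPolynomial n R))
  exact RingHom.flat_algebraMap_iff.2 inferInstance

/-- The affine space over a local ring of `X`, mapped to the affine space over `X`. -/
def chart (x : X) : Spec (CommRingCat.of (MvPolynomial n (X.presheaf.stalk x))) ⟶ 𝔸(n; X) :=
  (AffineSpace.SpecIso n (X.presheaf.stalk x)).inv ≫ AffineSpace.map n (X.fromSpecStalk x)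

theorem chart_over (x : X) :
    chart n X x ≫ 𝔸(n; X) ↘ X =
      Spec.map (CommRingCat.ofHom (MvPolynomial.C (σ := n) (R := X.presheaf.stalk x))) ≫ X.fromSpecStalk x := by
  rw [chart, Category.assoc, AffineSpace.map_over, AffineSpace.SpecIso_inv_over_assoc]

instance flat_chart (x : X) : Flat (chart n X x) := by
  haveI : Flat (X.fromSpecStalk x) := AlgSpLib.flat_fromSpecStalk x
  haveI : Flat (AffineSpace.map n (X.fromSpecStalk x)) :=
    MorphismProperty.of_isPullback (AffineSpace.isPullback_map (n := n) (X.fromSpecStalk x)).flip inferInstance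
  exact MorphismProperty.comp_mem _ _ _ inferInstance inferInstance

instance preimm_chart (x : X) : IsPreimmersion (chart n X x) := by
  haveI : IsPreimmersion (AffineSpace.map n (X.fromSpecStalk x)) :=
    MorphismProperty.of_isPullback (AffineSpace.isPullback_map (n := n) (X.fromSpecStalk x)).flip inferInstance
  unfold chart
  infer_instance

theorem bij_chart (x : X) (q : Spec (CommRingCat.of (MvPolynomial n (X.presheaf.stalk x)))) :
    Function.Bijective ((chart n X x).stalkMap q) :=
  AffContLib.bijective_stalkMap_of_flat_preimmersion _ q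

theorem exists_chart (x : X) (y : 𝔸(n; X)) (h : (𝔸(n; X) ↘ X) y ⤳ x) :
    ∃ q, chart n X x q = y := by
  obtain ⟨z, hz⟩ : (𝔸(n; X) ↘ X) y ∈ Set.range (X.fromSpecStalk x) := by
    rw [Scheme.range_fromSpecStalk]; exact h
  obtain ⟨q, hq, -⟩   := Scheme.exists_preimage_of_isPullback (AffineSpace.isPullback_map (n := n) (X.fromSpecStalk x)) y z hz.symm
  refine ⟨(AffineSpace.SpecIso n (X.presheaf.stalk x)).hom q, ?_⟩
  rw [chart, ← Scheme.Hom.comp_apply, Iso.hom_inv_id_assoc]
  exact hq

variable [IsIntegral X] [IsNoetherian X] [Finite n] [IsLocallyNoetherian 𝔸(n; X)]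

theorem generic_pr : (𝔸(n; X) ↘ X) (genericPoint (𝔸(n; X) : Scheme.{u})) = genericPoint X :=
  haveI := flat_pr n X
  map_generic_of_flat _

/-- Pullback of rational functions. -/
def pullF : X.functionField →+* (𝔸(n; X) : Scheme.{u}).functionField :=
  fmap (𝔸(n; X) ↘ X) (generic_pr n X)

theorem chart_generic (x : X) :
    chart n X x (genericPoint _) = genericPoint (𝔸(n; X) : Scheme.{u}) :=
  map_generic_of_flat _

theorem fromSpecStalk_generic (x : X) :
    X.fromSpecStalk x (genericPoint (Spec (X.presheaf.stalk x))) = genericPoint X :=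
  haveI : Flat (X.fromSpecStalk x) := AlgSpLib.flat_fromSpecStalk x
  map_generic_of_flat _

/-- Pullbacks of rational functions in a chart. -/
theorem fmap_chart_pullF (x : X) (f : X.functionField) :
    fmap (chart n X x) (chart_generic n X x) (pullF n X f) =
      fmap (Spec.map (CommRingCat.ofHom (MvPolynomial.C (σ := n) (R := X.presheaf.stalk x))))
        (haveI := flat_C n (X.presheaf.stalk x)
         map_generic_of_flat _)
        (fmap (X.fromSpecStalk x) (fromSpecStalk_generic X x) f) := by
  exact (fmap_comp _ _ _ _ f).symm.trans ((fmap_congr (chart_over n X x) _ f).trans (fmap_comp _ _ _ _ f))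

theorem fmap_fromSpecStalk_bijective (x : X) :
    Function.Bijective (fmap (X.fromSpecStalk x) (fromSpecStalk_generic X x)) :=
  haveI : Flat (X.fromSpecStalk x) := AlgSpLib.flat_fromSpecStalk x
  fmap_bijective _ _ (AffContLib.bijective_stalkMap_of_flat_preimmersion _ _)

/-- Any finite horizontal divisor is principal along the generic fibre. -/
theorem exists_horizontal (D' : (𝔸(n; X) : Scheme.{u}) → ℤ) (hD' : ∀ y, Order.coheight y ≠ 1 → D' y = 0)
    (hfin : {y | D' y ≠ 0}.Finite) :
    ∃ g : (𝔸(n; X) : Scheme.{u}).functionField, g ≠ 0 ∧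
      ∀ y, Order.coheight y = 1 → (𝔸(n; X) ↘ X) y = genericPoint X → Scheme.ord g y = D' y := by
  haveI : UniqueFactorizationMonoid (X.presheaf.stalk (genericPoint X)) :=
    inferInstanceAs (UniqueFactorizationMonoid X.functionField)
  let j := chart n X (genericPoint X)
  obtain ⟨f, hf, hord⟩ := Groth.Agent.S13460.result (MvPolynomial n (X.presheaf.stalk (genericPoint X)))
    (fun q => D' (j q)) (fun q hq => hD' _ (by rwa [coheight_eq_of_bijective j q (bij_chart n X _ q)]))
    (hfin.preimage j.isEmbedding.injective.injOn)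
  obtain ⟨g, hg⟩ := (fmap_bijective j (chart_generic n X _) (bij_chart n X _ _)).2 f
  refine ⟨g, fun h0 => hf (by rw [← hg, h0, map_zero]), fun y hy hpy => ?_⟩
  obtain ⟨q, hq⟩ := exists_chart n X (genericPoint X) y (by rw [hpy])
  have hq1 : Order.coheight q = 1 := by
    rw [← coheight_eq_of_bijective j q (bij_chart n X _ q)]
    show Order.coheight (chart n X _ q) = 1
    rw [hq, hy]
  have h := ord_fmap j (chart_generic n X _) q (bij_chart n X _ q) g
  rw [hg, hord q hq1] at h
  rw [← hq]
  exact h.symm

/-- A rational function with only vertical zeros and poles comes from the base. -/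
theorem exists_eq_pullF {g : (𝔸(n; X) : Scheme.{u}).functionField} (hg : g ≠ 0)
    (h : ∀ y, Order.coheight y = 1 → (𝔸(n; X) ↘ X) y = genericPoint X → Scheme.ord g y = 0) :
    ∃ f : X.functionField, f ≠ 0 ∧ pullF n X f = g := by
  haveI : UniqueFactorizationMonoid (X.presheaf.stalk (genericPoint X)) :=
    inferInstanceAs (UniqueFactorizationMonoid X.functionField)
  let K := X.presheaf.stalk (genericPoint X)
  haveI : UniqueFactorizationMonoid (MvPolynomial n K) := inferInstance
  haveI : IsIntegrallyClosed (MvPolynomial n K) := UniqueFactorizationMonoid.instIsIntegrallyClosed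
  let j := chart n X (genericPoint X)
  have hbj := fmap_bijective j (chart_generic n X _) (bij_chart n X _ _)
  obtain ⟨a, ha, hag⟩ := exists_unit_of_ord_eq_zero (A := MvPolynomial n K)
    (f := fmap j (chart_generic n X _) g) ((map_ne_zero_iff _ hbj.1).2 hg) fun q hq => by
      rw [ord_fmap j (chart_generic n X _) q (bij_chart n X _ q)]
      refine h _ (by rwa [coheight_eq_of_bijective j q (bij_chart n X _ q)]) ?_
      have hsp : (𝔸(n; X) ↘ X) (j q) ∈ Set.range (X.fromSpecStalk (genericPoint X)) := by
        rw [← Scheme.Hom.comp_apply, chart_over]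
        exact ⟨_, rfl⟩
      rw [Scheme.range_fromSpecStalk] at hsp
      exact (hsp.antisymm (genericPoint_specializes _)).eq
  obtain ⟨r, hr, rfl⟩ := MvPolynomial.isUnit_iff_eq_C_of_isReduced.1 ha
  obtain ⟨f, hf⟩ := (fmap_fromSpecStalk_bijective X (genericPoint X)).2 (ι K r)
  refine ⟨f, fun h0 => ι_ne_zero (A := K) hr.ne_zero ?_, hbj.1 ?_⟩
  · rw [← hf, h0, map_zero]
  · rw [← hag, fmap_chart_pullF, hf]
    exact fmap_ι _ _ r

/-- The component over a point of codimension one. -/
theorem exists_vertical {x : X} (hx : Order.coheight x = 1) [IsDiscreteValuationRing (X.presheaf.stalk x)] :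
    ∃ y : (𝔸(n; X) : Scheme.{u}), Order.coheight y = 1 ∧ (𝔸(n; X) ↘ X) y = x ∧
      (∀ y', Order.coheight y' = 1 → (𝔸(n; X) ↘ X) y' = x → y' = y) ∧
      ∀ f : X.functionField, Scheme.ord (pullF n X f) y = Scheme.ord f x := by
  let O := X.presheaf.stalk x
  let B := MvPolynomial n O
  let j := chart n X x
  let c := X.fromSpecStalk x
  haveI : Flat c := AlgSpLib.flat_fromSpecStalk x
  have hbc : ∀ z, Function.Bijective (c.stalkMap z) := AffContLib.bijective_stalkMap_of_flat_preimmersion c
  haveI : UniqueFactorizationMonoid B := inferInstance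
  haveI : IsIntegrallyClosed B := UniqueFactorizationMonoid.instIsIntegrallyClosed
  obtain ⟨π, hπ⟩ := IsDiscreteValuationRing.exists_irreducible O
  have hπp : Prime (MvPolynomial.C (σ := n) π) := (MvPolynomial.prime_C_iff (σ := n)).2 hπ.prime
  haveI hprime : (Ideal.span {MvPolynomial.C (σ := n) π}).IsPrime := (Ideal.span_singleton_prime hπp.ne_zero).2 hπp
  let q₀ : Spec (CommRingCat.of B) := ⟨Ideal.span {MvPolynomial.C (σ := n) π}, hprime⟩
  have hq₀ : Order.coheight q₀ = 1 := coheight_principal hπp rfl
  let z₀ : Spec (CommRingCat.of O) := IsLocalRing.closedPoint O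
  have hz₀ : z₀.asIdeal = Ideal.span {π} := hπ.maximalIdeal_eq
  have hz₀1 : Order.coheight z₀ = 1 := coheight_principal hπ.prime hz₀
  have hcz : c z₀ = x := Scheme.fromSpecStalk_closedPoint
  have hover : ∀ q, (𝔸(n; X) ↘ X) (j q) = c ((Spec.map (CommRingCat.ofHom (MvPolynomial.C (σ := n) (R := O)))) q) :=
    fun q => by rw [← Scheme.Hom.comp_apply, chart_over]; rfl
  have himg : Spec.map (CommRingCat.ofHom (MvPolynomial.C (σ := n) (R := O))) q₀ = z₀ := by
    refine PrimeSpectrum.ext (Eq.symm ?_)
    haveI : (z₀.asIdeal).IsMaximal := IsLocalRing.maximalIdeal.isMaximal O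
    refine Ideal.IsMaximal.eq_of_le inferInstance (PrimeSpectrum.isPrime _).ne_top ?_
    rw [hz₀, Ideal.span_singleton_le_iff_mem]
    show MvPolynomial.C π ∈ q₀.asIdeal
    exact Ideal.mem_span_singleton_self _
  refine ⟨j q₀, (coheight_eq_of_bijective j q₀ (bij_chart n X x q₀)).trans hq₀, ?_, fun y' hy' hpy => ?_, fun f => ?_⟩
  · rw [hover, himg, hcz]
  · obtain ⟨q, rfl⟩ := exists_chart n X x y' (by rw [hpy])
    refine congrArg j (PrimeSpectrum.ext ?_)
    have hq1 : Order.coheight q = 1 := (coheight_eq_of_bijective j q (bij_chart n X x q)).symm.trans hy'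
    refine eq_principal hπp hq1 ?_
    have e := c.isEmbedding.injective ((hover q).symm.trans (hpy.trans hcz.symm))
    have hmem : π ∈ ((Spec.map (CommRingCat.ofHom (MvPolynomial.C (σ := n) (R := O)))) q).asIdeal := by
      rw [e, hz₀]
      exact Ideal.mem_span_singleton_self _
    exact hmem
  · by_cases hf : f = 0
    · subst hf
      rw [map_zero, Scheme.ord_zero, Scheme.ord_zero]; rfl
    rw [← ord_fmap j (chart_generic n X x) q₀ (bij_chart n X x q₀), fmap_chart_pullF]
    conv_rhs => rw [← hcz, ← ord_fmap c (fromSpecStalk_generic X x) z₀ (hbc z₀)]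
    obtain ⟨r, hr⟩ : ∃ r : (Spec (CommRingCat.of O)).functionField, fmap c (fromSpecStalk_generic X x) f = r := ⟨_, rfl⟩
    have hr0 : r ≠ 0 := hr ▸ (map_ne_zero_iff _ (fmap_fromSpecStalk_bijective X x).1).2 hf
    let alg : Algebra O ((Spec (CommRingCat.of O)).functionField) := (ι O).toAlgebra
    haveI : IsFractionRing O ((Spec (CommRingCat.of O)).functionField) := functionField_isFractionRing_of_affine O
    obtain ⟨a, b, hb, hab⟩ := IsFractionRing.div_surjective O r
    have hab' : ι O a / ι O b = r := hab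
    have hb0 : b ≠ 0 := nonZeroDivisors.ne_zero hb
    have ha0 : a ≠ 0 := fun h0 => hr0 (by rw [← hab', h0, map_zero, zero_div])
    erw [hr]
    rw [← hab', map_div₀, fmap_ι, fmap_ι]
    have key : ∀ d : O, d ≠ 0 → Scheme.ord (ι B (MvPolynomial.C d)) q₀ = Scheme.ord (ι O d) z₀ := by
      intro d hd
      obtain ⟨m, w, rfl⟩ := IsDiscreteValuationRing.eq_unit_mul_pow_irreducible hd hπ
      rw [map_mul MvPolynomial.C, map_pow MvPolynomial.C,
        ord_ι_mul (w.isUnit.map (MvPolynomial.C (σ := n))).ne_zero (pow_ne_zero _ hπp.ne_zero),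
        ord_ι_mul w.ne_zero (pow_ne_zero _ hπ.ne_zero), ord_ι_unit (w.isUnit.map MvPolynomial.C),
        ord_ι_unit w.isUnit, ord_ι_pow hπp.ne_zero, ord_ι_pow hπ.ne_zero,
        ord_ι_prime hq₀ rfl, ord_ι_prime hz₀1 hz₀]
    rw [div_eq_mul_inv, div_eq_mul_inv, Scheme.ord_mul (ι_ne_zero ((map_ne_zero_iff _ (MvPolynomial.C_injective n O)).2 ha0))
        (inv_ne_zero (ι_ne_zero ((map_ne_zero_iff _ (MvPolynomial.C_injective n O)).2 hb0))),
      Scheme.ord_mul (ι_ne_zero ha0) (inv_ne_zero (ι_ne_zero hb0)),
      CDivCoreLib.ord_inv (ι_ne_zero ((map_ne_zero_iff _ (MvPolynomial.C_injective n O)).2 hb0)),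
      CDivCoreLib.ord_inv (ι_ne_zero hb0), key a ha0, key b hb0]

end WDivAffLib

end
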