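import Groth.Agent.Ref1Lib.DivProps
import Groth.Agent.Ref1Lib.OrdRestrict
import Groth.Agent.AffContLib.Semi

/-!
# Orders of vanishing along maps with bijective stalk maps
-/

set_option autoImplicit false
set_option linter.style.haveILetI false
universe u

open CategoryTheory AlgebraicGeometry TopologicalSpace

noncomputable section

namespace WDivAffLib

variable {Q P X : Scheme.{u}} [IsIntegral Q] [IsIntegral P] [IsIntegral X]

/-- The map of function fields of a morphism sending generic point to generic point. -/
def fmap (j : Q ⟶ P) (h : j (genericPoint Q) = genericPoint P) : P.functionField →+* Q.functionField :=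
  (j.stalkMap (genericPoint Q)).hom.comp
    (P.presheaf.stalkSpecializes (x := j (genericPoint Q)) (y := genericPoint P) (specializes_of_eq h)).hom

theorem fmap_bijective (j : Q ⟶ P) (h : j (genericPoint Q) = genericPoint P)
    (hb : Function.Bijective (j.stalkMap (genericPoint Q))) : Function.Bijective (fmap j h) := by
  refine hb.comp ?_
  have key : ∀ (z : P) (e : z = genericPoint P), Function.Bijective
      (P.presheaf.stalkSpecializes (specializes_of_eq e)).hom := by
    rintro z rfl
    rw [TopCat.Presheaf.stalkSpecializes_refl]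
    exact Function.bijective_id
  exact key _ h

theorem fmap_algebraMap (j : Q ⟶ P) (h : j (genericPoint Q) = genericPoint P) (q : Q)
    (a : P.presheaf.stalk (j q)) :
    fmap j h (algebraMap (P.presheaf.stalk (j q)) P.functionField a) =
      algebraMap (Q.presheaf.stalk q) Q.functionField (j.stalkMap q a) := by
  have hu : genericPoint Q ⤳ q := (genericPoint_spec Q).specializes trivial
  refine Eq.trans ?_ (Scheme.Hom.stalkSpecializes_stalkMap_apply j _ q hu a)
  show j.stalkMap (genericPoint Q) (P.presheaf.stalkSpecializes _ (P.presheaf.stalkSpecializes _ a)) = _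
  refine congrArg (j.stalkMap (genericPoint Q)).hom ?_
  exact congr($(TopCat.Presheaf.stalkSpecializes_comp P.presheaf (specializes_of_eq h)
    ((genericPoint_spec P).specializes (Set.mem_univ (j q)))) a)

theorem fmap_germ (j : Q ⟶ P) (h : j (genericPoint Q) = genericPoint P) (U : P.Opens)
    (hη : genericPoint P ∈ U) (a : Γ(P, U)) :
    fmap j h (P.presheaf.germ U _ hη a) =
      Q.presheaf.germ (j ⁻¹ᵁ U) (genericPoint Q) (by change j (genericPoint Q) ∈ U; rw [h]; exact hη) (j.app U a) := by
  change j.stalkMap (genericPoint Q) (P.presheaf.stalkSpecializes _ _) = _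
  rw [TopCat.Presheaf.germ_stalkSpecializes_apply]
  exact Scheme.Hom.germ_stalkMap_apply j U (genericPoint Q) (h.symm ▸ hη) a

theorem fmap_comp (j : Q ⟶ P) (h : j (genericPoint Q) = genericPoint P) (p : P ⟶ X)
    (hp : p (genericPoint P) = genericPoint X) (f : X.functionField) :
    fmap (j ≫ p) (by rw [Scheme.Hom.comp_apply, h, hp]) f = fmap j h (fmap p hp f) := by
  obtain ⟨U, hηU, a, rfl⟩ := X.presheaf.exists_germ_eq f
  rw [fmap_germ p hp U hηU, fmap_germ j h, fmap_germ (j ≫ p) _ U hηU]
  rfl

theorem fmap_congr {j j' : Q ⟶ P} (e : j = j') (h : j (genericPoint Q) = genericPoint P) (f : P.functionField) :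
    fmap j h f = fmap j' (e ▸ h) f := by
  subst e; rfl

theorem coheight_eq_of_bijective (j : Q ⟶ P) (q : Q) (hb : Function.Bijective (j.stalkMap q)) :
    Order.coheight (j q) = Order.coheight q := by
  haveI : IsIso (j.stalkMap q) := (ConcreteCategory.isIso_iff_bijective _).2 hb
  have h := ringKrullDim_eq_of_ringEquiv (asIso (j.stalkMap q)).commRingCatIsoToRingEquiv
  rw [ringKrullDim_stalk_eq_coheight, ringKrullDim_stalk_eq_coheight] at h
  exact_mod_cast h

variable [IsLocallyNoetherian P] [IsLocallyNoetherian Q]

theorem ord_fmap (j : Q ⟶ P) (h : j (genericPoint Q) = genericPoint P) (q : Q)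
    (hb : Function.Bijective (j.stalkMap q)) (g : P.functionField) :
    Scheme.ord (fmap j h g) q = Scheme.ord g (j q) := by
  have hco := coheight_eq_of_bijective j q hb
  by_cases hu : Order.coheight q = 1
  swap
  · rw [Scheme.ord_eq_zero_of_coheight_neq_one hu, Scheme.ord_eq_zero_of_coheight_neq_one (by rwa [hco])]
  have hx : Order.coheight (j q) = 1 := hco.trans hu
  by_cases hg : g = 0
  · subst hg; rw [map_zero, Scheme.ord_zero, Scheme.ord_zero]; rfl
  haveI : Ring.KrullDimLE 1 (P.presheaf.stalk (j q)) := krullDimLE_of_coheight_le hx.le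
  haveI : Ring.KrullDimLE 1 (Q.presheaf.stalk q) := krullDimLE_of_coheight_le hu.le
  obtain ⟨a, b, hb', rfl⟩ := IsFractionRing.div_surjective (P.presheaf.stalk (j q)) g
  have hb0 : b ≠ 0 := nonZeroDivisors.ne_zero hb'
  have ha0 : a ≠ 0 := fun h0 => hg (by rw [h0, map_zero, zero_div])
  let e : P.presheaf.stalk (j q) ≃+* Q.presheaf.stalk q := RingEquiv.ofBijective (j.stalkMap q).hom hb
  have key : ∀ c : P.presheaf.stalk (j q), c ≠ 0 →
      Ring.ordFrac (Q.presheaf.stalk q) (algebraMap _ Q.functionField (j.stalkMap q c)) =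
        Ring.ordFrac (P.presheaf.stalk (j q)) (algebraMap _ P.functionField c) := fun c hc => by
    have hec : e c ≠ 0 := fun h0 => hc (e.injective (h0.trans (map_zero e).symm))
    rw [show j.stalkMap q c = e c from rfl, Ring.ordFrac_eq_ord _ hec, Ring.ordFrac_eq_ord _ hc,
      Ring.ordMonoidWithZeroHom_eq_ord (mem_nonZeroDivisors_of_ne_zero hec),
      Ring.ordMonoidWithZeroHom_eq_ord (mem_nonZeroDivisors_of_ne_zero hc), Ref1Lib.length_quotient_ringEquiv]
  have h2 : Scheme.ordHom q hu (fmap j h (algebraMap _ P.functionField a / algebraMap _ P.functionField b)) =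
      Scheme.ordHom (j q) hx (algebraMap _ P.functionField a / algebraMap _ P.functionField b) := by
    rw [map_div₀, map_div₀, map_div₀, fmap_algebraMap, fmap_algebraMap]
    show Ring.ordFrac (Q.presheaf.stalk q) _ / Ring.ordFrac (Q.presheaf.stalk q) _ = _
    rw [key a ha0, key b hb0]
    rfl
  rw [Scheme.ord_eq_ordHom_of_coheight_eq_one hu, Scheme.ord_eq_ordHom_of_coheight_eq_one hx, h2]

omit [IsLocallyNoetherian P] [IsLocallyNoetherian Q]

/-- Flat morphisms send the generic point to the generic point. -/
theorem map_generic_of_flat (p : P ⟶ X) [Flat p] : p (genericPoint P) = genericPoint X := by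
  obtain ⟨y, hy, hpy⟩ := Flat.generalizingMap p ((genericPoint_spec X).specializes (Set.mem_univ (p (genericPoint P))))
  have : y = genericPoint P := (hy.antisymm ((genericPoint_spec P).specializes (Set.mem_univ y))).eq
  rw [← this]
  exact hpy

/-- Flat morphisms do not increase the codimension. -/
theorem coheight_le_of_flat (p : P ⟶ X) [Flat p] (y : P) : Order.coheight (p y) ≤ Order.coheight y := by
  have hf := Flat.stalkMap p y
  algebraize [(p.stalkMap y).hom]
  have : Module.FaithfullyFlat (X.presheaf.stalk (p y)) (P.presheaf.stalk y) :=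
    @Module.FaithfullyFlat.of_flat_of_isLocalHom _ _ _ _ _ _ _ hf (p.toLRSHom.prop y)
  have h : ringKrullDim (X.presheaf.stalk (p y)) ≤ ringKrullDim (P.presheaf.stalk y) :=
    iSup_le fun l => by
      obtain ⟨Q, hQ⟩ := PrimeSpectrum.comap_surjective_of_faithfullyFlat
        (A := X.presheaf.stalk (p y)) (B := P.presheaf.stalk y) l.last
      haveI : Q.asIdeal.LiesOver l.last.asIdeal := ⟨(congrArg PrimeSpectrum.asIdeal hQ).symm⟩
      obtain ⟨L, hL, -, -⟩ := Ideal.exists_ltSeries_of_hasGoingDown l Q.asIdeal
      rw [← hL]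
      exact Order.LTSeries.length_le_krullDim L
  rw [ringKrullDim_stalk_eq_coheight, ringKrullDim_stalk_eq_coheight] at h
  exact_mod_cast h

end WDivAffLib

end
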