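import Groth.Agent.WDivAffLib.Ord
import Groth.Agent.S13460

/-!
# Rational functions on the spectrum of a factorial ring
-/

set_option autoImplicit false
set_option linter.style.haveILetI false
set_option backward.isDefEq.respectTransparency false
set_option backward.isDefEq.respectTransparency.types false
universe u

open CategoryTheory AlgebraicGeometry TopologicalSpace

noncomputable section

namespace WDivAffLib

variable {A : Type u} [CommRing A] [IsDomain A]

/-- An element of the ring as a rational function. -/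
def ι (A : Type u) [CommRing A] [IsDomain A] : A →+* (Spec (CommRingCat.of A)).functionField :=
  ((Spec (CommRingCat.of A)).presheaf.germ ⊤ (genericPoint (Spec (CommRingCat.of A))) trivial).hom.comp
    (Scheme.ΓSpecIso (CommRingCat.of A)).inv.hom

theorem ι_ne_zero {a : A} (ha : a ≠ 0) : ι A a ≠ 0 := fun h => ha (by
  have h1 := germ_injective_of_isIntegral (Spec (CommRingCat.of A)) _ (U := ⊤) trivial (h.trans (map_zero _).symm)
  exact (Scheme.ΓSpecIso (CommRingCat.of A)).commRingCatIsoToRingEquiv.symm.injective (h1.trans (map_zero _).symm))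

theorem fmap_ι {B : Type u} [CommRing B] [IsDomain B] (φ : A →+* B)
    (h : Spec.map (CommRingCat.ofHom φ) (genericPoint (Spec (CommRingCat.of B))) =
      genericPoint (Spec (CommRingCat.of A))) (a : A) :
    fmap (Spec.map (CommRingCat.ofHom φ)) h (ι A a) = ι B (φ a) := by
  rw [ι, RingHom.comp_apply, fmap_germ _ h ⊤ trivial]
  have e := congr($(Scheme.ΓSpecIso_inv_naturality (CommRingCat.ofHom φ)) a)
  refine Eq.trans ?_ (congrArg ((Spec (CommRingCat.of B)).presheaf.germ ⊤ _ trivial) e.symm)
  rfl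

variable [IsNoetherianRing A]

theorem ord_ι_unit {a : A} (ha : IsUnit a) (x : Spec (CommRingCat.of A)) : Scheme.ord (ι A a) x = 0 := by
  haveI : Nonempty (⊤ : (Spec (CommRingCat.of A)).Opens) := ⟨⟨x, trivial⟩⟩
  exact Scheme.ord_of_isUnit (U := ⊤) (ha.map (Scheme.ΓSpecIso (CommRingCat.of A)).inv.hom) trivial

theorem ord_ι_mul {a b : A} (ha : a ≠ 0) (hb : b ≠ 0) (x : Spec (CommRingCat.of A)) :
    Scheme.ord (ι A (a * b)) x = Scheme.ord (ι A a) x + Scheme.ord (ι A b) x := by
  rw [map_mul, Scheme.ord_mul (ι_ne_zero ha) (ι_ne_zero hb)]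

theorem ord_ι_pow {a : A} (ha : a ≠ 0) (m : ℕ) (x : Spec (CommRingCat.of A)) :
    Scheme.ord (ι A (a ^ m)) x = m * Scheme.ord (ι A a) x := by
  rw [map_pow, Ref1Lib.ord_pow' (ι_ne_zero ha)]

variable [IsIntegrallyClosed A]

theorem isNormal_spec : Pi1.IsNormalScheme (Spec (CommRingCat.of A)) := fun x => by
  let alg : Algebra A ((Spec (CommRingCat.of A)).presheaf.stalk x) := StructureSheaf.stalkAlgebra A x
  haveI : IsLocalization.AtPrime ((Spec (CommRingCat.of A)).presheaf.stalk x) x.asIdeal :=
    inferInstanceAs (IsLocalization.AtPrime ((Spec.structureSheaf A).presheaf.stalk x) x.asIdeal)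
  exact ⟨inferInstance, isIntegrallyClosed_of_isLocalization (R := A) ((Spec (CommRingCat.of A)).presheaf.stalk x)
    x.asIdeal.primeCompl x.asIdeal.primeCompl_le_nonZeroDivisors⟩

/-- The order of a prime element at the point it defines. -/
theorem ord_ι_prime {π : A} {x : Spec (CommRingCat.of A)} (hx : Order.coheight x = 1)
    (hπ : x.asIdeal = Ideal.span {π}) : Scheme.ord (ι A π) x = 1 := by
  let X := Spec (CommRingCat.of A)
  let alg : Algebra A (X.presheaf.stalk x) := StructureSheaf.stalkAlgebra A x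
  haveI : IsLocalization.AtPrime (X.presheaf.stalk x) x.asIdeal :=
    inferInstanceAs (IsLocalization.AtPrime ((Spec.structureSheaf A).presheaf.stalk x) x.asIdeal)
  haveI : Ring.KrullDimLE 1 (X.presheaf.stalk x) := krullDimLE_of_coheight_le hx.le
  haveI := CDivCoreLib.isDVR_of_coheight isNormal_spec hx
  have hg : algebraMap (X.presheaf.stalk x) X.functionField (algebraMap A (X.presheaf.stalk x) π) = ι A π :=
    CDivCoreLib.algebraMap_germ (U := (⊤ : X.Opens)) trivial trivial _
  have hirr : Irreducible (algebraMap A (X.presheaf.stalk x) π) := by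
    refine (IsDiscreteValuationRing.irreducible_iff_uniformizer _).2 ?_
    rw [← IsLocalization.AtPrime.map_eq_maximalIdeal (R := A) x.asIdeal (X.presheaf.stalk x), hπ, Ideal.map_span,
      Set.image_singleton]
  rw [← hg, Scheme.ord_eq_iff hx ((map_ne_zero_iff _
    (IsFractionRing.injective (X.presheaf.stalk x) X.functionField)).2 hirr.ne_zero)]
  exact Ring.ordFrac_irreducible hirr

/-- A rational function without zeros and poles is a unit. -/
theorem exists_unit_of_ord_eq_zero {f : (Spec (CommRingCat.of A)).functionField} (hf : f ≠ 0)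
    (h : ∀ x, Order.coheight x = 1 → Scheme.ord f x = 0) : ∃ a : A, IsUnit a ∧ ι A a = f := by
  let X := Spec (CommRingCat.of A)
  have hreg : ∀ (g : X.functionField), g ≠ 0 → (∀ x, Order.coheight x = 1 → Scheme.ord g x = 0) →
      ∃ a : A, ι A a = g := fun g hg hg0 => by
    obtain ⟨r, hr⟩ := Ref1Lib.exists_section_of_reg' (U := (⊤ : X.Opens)) (trivial : genericPoint X ∈ (⊤ : X.Opens)) g
      fun x _ => CDivCoreLib.reg_of_coheight_one isNormal_spec fun y _ hy =>
        CDivCoreLib.reg_of_ord_nonneg isNormal_spec hy hg (hg0 y hy).ge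
    refine ⟨(Scheme.ΓSpecIso (CommRingCat.of A)).hom r, ?_⟩
    rw [← hr]
    exact congrArg (X.presheaf.germ ⊤ _ trivial) ((Scheme.ΓSpecIso (CommRingCat.of A)).hom_inv_id_apply r)
  obtain ⟨a, ha⟩ := hreg f hf h
  obtain ⟨b, hb⟩ := hreg f⁻¹ (inv_ne_zero hf) fun x hx => by rw [CDivCoreLib.ord_inv hf, h x hx, neg_zero]
  refine ⟨a, IsUnit.of_mul_eq_one b ?_, ha⟩
  by_contra hne
  refine ι_ne_zero (sub_ne_zero.2 hne) ?_
  rw [map_sub, map_mul, ha, hb, map_one, mul_inv_cancel₀ hf, sub_self]

omit [IsIntegrallyClosed A] in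
theorem coheight_principal {π : A} (hπ : Prime π) {x : Spec (CommRingCat.of A)} (hx : x.asIdeal = Ideal.span {π}) :
    Order.coheight x = 1 := by
  haveI := (Ideal.span_singleton_prime hπ.ne_zero).2 hπ
  rw [← idealHeight_eq_coheight (R := CommRingCat.of A) x]
  refine le_antisymm ?_ ?_
  · exact Ideal.height_le_one_of_isPrincipal_of_mem_minimalPrimes (Ideal.span {π}) _
      (by rw [hx, Ideal.minimalPrimes_eq_subsingleton_self]; rfl)
  · rw [ENat.one_le_iff_ne_zero]
    intro h0
    rw [Ideal.height_eq_zero_iff, IsDomain.minimalPrimes_eq_singleton_bot, Set.mem_singleton_iff, hx] at h0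
    exact hπ.ne_zero (Ideal.span_singleton_eq_bot.1 h0)

omit [IsIntegrallyClosed A] in
theorem eq_principal {π : A} (hπ : Prime π) {x : Spec (CommRingCat.of A)} (hx : Order.coheight x = 1)
    (h : π ∈ x.asIdeal) : x.asIdeal = Ideal.span {π} := by
  by_contra hne
  have hlt : Ideal.span {π} < x.asIdeal :=
    lt_of_le_of_ne ((Ideal.span_singleton_le_iff_mem _).2 h) (Ne.symm hne)
  haveI := (Ideal.span_singleton_prime hπ.ne_zero).2 hπ
  have h1 : (1 : ℕ∞) ≤ (Ideal.span {π}).height := by
    rw [ENat.one_le_iff_ne_zero]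
    intro h0
    rw [Ideal.height_eq_zero_iff, IsDomain.minimalPrimes_eq_singleton_bot, Set.mem_singleton_iff] at h0
    exact hπ.ne_zero (Ideal.span_singleton_eq_bot.1 h0)
  have h3 : Order.coheight x = x.asIdeal.height := (idealHeight_eq_coheight (R := CommRingCat.of A) x).symm
  rw [hx] at h3
  have h4 : x.asIdeal.FiniteHeight := ⟨Or.inr (by rw [← h3]; exact ENat.one_ne_top)⟩
  have h2 := Ideal.height_strict_mono_of_isPrime hlt
  rw [← h3] at h2
  exact absurd (h1.trans_lt h2) (lt_irrefl _)

end WDivAffLib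

end
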